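import Groth.Agent.SSMod.K640.ValStack
import Groth.Agent.SSMod.K122.Plan

/-!
# Stable curves over valuation rings with algebraically closed fraction field (helper640)

`K640.Valex.valex`: node (N1) = `K122.Plan.Valex` from the properness of the stack of stable pointed curves over every
base (S16726), in the form of the hypothesis `MbarProper`.
-/

set_option autoImplicit false
set_option backward.isDefEq.respectTransparency false
set_option backward.isDefEq.respectTransparency.types false

universe u

open CategoryTheory CategoryTheory.Limits AlgebraicGeometry Opposite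

namespace K640.Valex

/-- The part of S16726 which is used. -/
def MbarProper : Prop := ∀ (S : Scheme.{u}) (g n : ℕ), 3 ≤ 2 * g + n →
  AlgSt.IsAlgStack Scheme.etalePrecoverage (CurvSt.Mbar S g n) ∧
    AlgSt.IsSeparatedOver (CurvSt.Mbar S g n) ∧
    AlgSt.LocQ (AlgSp.LocP @LocallyOfFiniteType) (FibCat.toSelf (CurvSt.Mbar S g n)) ∧
    AlgSt.IsUnivClosed Scheme.etalePrecoverage (FibCat.toSelf (CurvSt.Mbar S g n))

theorem valex (H : MbarProper.{u}) : K122.Plan.Valex.{u} := by
  intro V _ _ _ _ _ g n hgn X p σ hσ hX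
  obtain ⟨h1, h2, h3, h4⟩ := H (Spec (CommRingCat.of V)) g n hgn
  let η := Spec.map (CommRingCat.ofHom (algebraMap V (FractionRing V)))
  let A : CurvSt.PtFamObj (Spec (CommRingCat.of V)) n := ⟨Over.mk η, X, p, σ, hσ⟩
  let x : (CurvSt.Mbar (Spec (CommRingCat.of V)) g n).obj := ⟨A, hX⟩
  obtain ⟨⟨⟨B, Y, q, τ, hτ⟩, hY⟩, φ, hy⟩ := K640.ValStack.exists_extension h1 h2 h3 h4 x rfl
  change B = Over.mk (𝟙 _) at hy
  subst hy
  let ψ : CurvSt.PtFamObj.Hom A ⟨Over.mk (𝟙 _), Y, q, τ, hτ⟩ := φ.hom
  have hb : ψ.base.left = η := by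
    have := Over.w ψ.base
    exact (Category.comp_id _).symm.trans this
  refine ⟨Y, q, τ, hτ, ψ.top, hY, ?_, fun i => ?_⟩
  · have := ψ.cart
    rw [hb] at this
    exact this
  · have := ψ.w_sect i
    rw [hb] at this
    exact this

end K640.Valex
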