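import Groth.Agent.SSMod.K755.Plan5
import Groth.Agent.SSMod.K478.OpenC
import Groth.Agent.SSMod.K971.BaseChange
import Groth.Agent.SSMod.K122.ValBase

/-!
# It is enough to contract near the closed points of the closed fibre

`K755.SSPlan.Localize`: a closed point `c'` of the affine `C` in the closure of `c` lies over a prime `q` of `R`; as
`R` has finitely many primes, `R_q = R[1/a]`, and everything can be done over the open subscheme `Spec R_q`.
-/

set_option autoImplicit false
universe u
open CategoryTheory CategoryTheory.Limits AlgebraicGeometry TopologicalSpace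

namespace K640.Localize

/-- In a ring with finitely many primes every localization at a prime is the localization at one element. -/
theorem exists_away (R : Type u) [CommRing R] [Finite (PrimeSpectrum R)] (q : Ideal R) [q.IsPrime] :
    ∃ a : R, a ∉ q ∧ IsLocalization.AtPrime (Localization.Away a) q := by
  classical
  have : Fintype (PrimeSpectrum R) := Fintype.ofFinite _
  have h1 : ∀ p : PrimeSpectrum R, ∃ a : R, a ∉ q ∧ (¬ p.asIdeal ≤ q → a ∈ p.asIdeal) := by
    intro p
    by_cases hp : p.asIdeal ≤ q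
    · exact ⟨1, q.one_notMem, fun h => (h hp).elim⟩
    · obtain ⟨a, ha, ha'⟩ := SetLike.not_le_iff_exists.1 hp
      exact ⟨a, ha', fun _ => ha⟩
  choose a ha ha' using h1
  have hb : (∏ p, a p) ∉ q := fun h => by
    obtain ⟨p, -, hp⟩ := Ideal.IsPrime.prod_mem_iff.1 h
    exact ha p hp
  have hb' : ∀ p : PrimeSpectrum R, ¬ p.asIdeal ≤ q → (∏ p, a p) ∈ p.asIdeal := fun p hp =>
    Ideal.mem_of_dvd _ (Finset.dvd_prod_of_mem a (Finset.mem_univ p)) (ha' p hp)
  refine ⟨∏ p, a p, hb, ?_⟩
  refine IsLocalization.isLocalization_of_is_exists_mul_mem (S := Localization.Away (∏ p, a p))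
    (Submonoid.powers (∏ p, a p)) q.primeCompl ?_ ?_
  · rw [Submonoid.powers_le]
    exact hb
  · rintro ⟨s, hs⟩
    have h2 : (∏ p, a p) ∈ (Ideal.span {s}).radical := by
      rw [Ideal.radical_eq_sInf, Ideal.mem_sInf]
      rintro p ⟨hp, hp'⟩
      exact hb' ⟨p, hp'⟩ (fun h => hs (h (hp (Ideal.mem_span_singleton_self s))))
    obtain ⟨n, hn⟩ := h2
    obtain ⟨m, hm⟩ := Ideal.mem_span_singleton'.1 hn
    exact ⟨m, by rw [hm]; exact ⟨n, rfl⟩⟩

theorem isAlgClosed_away (R : Type u) [CommRing R] [IsDomain R] [IsAlgClosed (FractionRing R)] (a : R) (ha : a ≠ 0)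
    [IsDomain (Localization.Away a)] : IsAlgClosed (FractionRing (Localization.Away a)) := by
  have hle : ∀ s : Submonoid.powers a, IsUnit (algebraMap R (FractionRing R) s) := by
    rintro ⟨_, n, rfl⟩
    refine IsUnit.mk0 _ ?_
    simpa using fun h => (ha h).elim
  let _ : Algebra (Localization.Away a) (FractionRing R) :=
    (IsLocalization.lift (M := Submonoid.powers a) hle).toAlgebra
  have h4 : IsScalarTower R (Localization.Away a) (FractionRing R) := IsScalarTower.of_algebraMap_eq' (by
    rw [RingHom.algebraMap_toAlgebra]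
    exact (IsLocalization.lift_comp _).symm)
  have h5 : IsFractionRing (Localization.Away a) (FractionRing R) :=
    IsFractionRing.isFractionRing_of_isDomain_of_isLocalization (Submonoid.powers a) (Localization.Away a)
      (FractionRing R)
  exact IsAlgClosed.of_ringEquiv (FractionRing R) (FractionRing (Localization.Away a))
    (FractionRing.algEquiv (Localization.Away a) (FractionRing R)).symm.toRingEquiv

/-- A semistable modification over `S` of a curve living over `S₀ ⊆ S` is one over `S₀`. -/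
theorem isSemistableModification_of_mono {S₀ S C D C' D' : Scheme.{u}} (j : S₀ ⟶ S) [Mono j] {φ : C ⟶ S₀}
    {i : D ⟶ C} {i' : D' ⟶ C'} {fC : C' ⟶ C} {fD : D' ⟶ D}
    (h : SSMod.IsSemistableModification (φ ≫ j) i i' fC fD) : SSMod.IsSemistableModification φ i i' fC fD := by
  have sq : IsPullback (𝟙 C') (fC ≫ φ) (fC ≫ φ ≫ j) j := by
    refine ⟨⟨by simp⟩, ⟨PullbackCone.IsLimit.mk _ (fun s => s.fst) (fun s => by simp) (fun s => ?_) ?_⟩⟩
    · rw [← cancel_mono j, Category.assoc, Category.assoc, s.condition]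
    · intro s m hm _
      simpa using hm
  have sqi : IsPullback (𝟙 D') i' i' (𝟙 C') := IsPullback.of_horiz_isIso ⟨by simp⟩
  obtain ⟨⟨h1, h2, h3, h4⟩, h5⟩ := h
  exact ⟨⟨h1, K971.SSBaseChange.isMPCurve_of_isPullback h2 sq sqi, h3, h4⟩,
    K971.SSBaseChange.isSemistable_of_isPullback h5 sq sqi⟩

theorem isEtaIso_of_mono {S₀ S C C' : Scheme.{u}} [IsIntegral S₀] [IsIntegral S] (j : S₀ ⟶ S)
    (hj : j (genericPoint S₀) = genericPoint S) {φ : C ⟶ S₀} {fC : C' ⟶ C}
    (h : SSMod.IsEtaIso (φ ≫ j) fC) : SSMod.IsEtaIso φ fC :=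
  K971.SSBaseChange.isEtaIso_baseChange h (t := j) hj (p := 𝟙 C) (by simp) (p' := 𝟙 C')
    (IsPullback.of_horiz_isIso ⟨by simp⟩)

theorem main : K755.SSPlan.Localize.{u} := by
  intro hpost hrestr hclosed R _ _ _ _ _ C D C' D' _ φ i hC i' gC gD hss heC heD c
  classical
  -- a closed point in the closure of `c`
  obtain ⟨c', hc', hcl⟩ := (isClosed_closure (s := ({c} : Set C))).exists_closed_singleton
    ⟨c, subset_closure (Set.mem_singleton c)⟩
  have hsp : c ⤳ c' := specializes_iff_mem_closure.2 hc'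
  obtain ⟨q, hq⟩ : ∃ q : PrimeSpectrum R, φ c' = q := ⟨_, rfl⟩
  have hqp : q.asIdeal.IsPrime := q.isPrime
  obtain ⟨a, haq, hloc⟩ := exists_away R q.asIdeal
  have ha0 : a ≠ 0 := fun h => haq (h ▸ q.asIdeal.zero_mem)
  have hle : Submonoid.powers a ≤ nonZeroDivisors R :=
    powers_le_nonZeroDivisors_of_noZeroDivisors ha0
  have hdom : IsDomain (Localization.Away a) := IsLocalization.isDomain_localization hle
  have hval : ValuationRing (Localization.Away a) :=
    K122.ValBase.valuationRing_of_isLocalization R (Localization.Away a) q.asIdeal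
  have hfin : Finite (PrimeSpectrum (Localization.Away a)) :=
    Finite.of_injective _ (PrimeSpectrum.localization_comap_injective (Localization.Away a) (Submonoid.powers a))
  have hac : IsAlgClosed (FractionRing (Localization.Away a)) := isAlgClosed_away R a ha0
  let j : Spec (CommRingCat.of (Localization.Away a)) ⟶ Spec (CommRingCat.of R) :=
    Spec.map (CommRingCat.ofHom (algebraMap R (Localization.Away a)))
  have hj : IsOpenImmersion j := inferInstance
  have hjq : j (IsLocalRing.closedPoint (Localization.Away a)) = q := by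
    apply PrimeSpectrum.ext
    exact IsLocalization.AtPrime.under_maximalIdeal (Localization.Away a) q.asIdeal
  have hjg : j (genericPoint _) = genericPoint _ := genericPoint_eq_of_isOpenImmersion j
  -- the part of `C` over `Spec R_q`
  let C₀ := pullback φ j
  let k : C₀ ⟶ C := pullback.fst φ j
  let φ₀ : C₀ ⟶ Spec (CommRingCat.of (Localization.Away a)) := pullback.snd φ j
  have sq : IsPullback k φ₀ φ j := IsPullback.of_hasPullback φ j
  have hk : IsOpenImmersion k := inferInstance
  have hkφ : k ≫ φ = φ₀ ≫ j := sq.w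
  have haff : IsAffine C₀ := inferInstance
  let D₀ := pullback i k
  have sqi : IsPullback (pullback.fst i k) (pullback.snd i k) i k := IsPullback.of_hasPullback i k
  let X := pullback gC k
  have sqX : IsPullback (pullback.fst gC k) (pullback.snd gC k) gC k := IsPullback.of_hasPullback gC k
  let DX := pullback gD (pullback.fst i k)
  have sqDX : IsPullback (pullback.fst gD (pullback.fst i k)) (pullback.snd gD (pullback.fst i k)) gD
    (pullback.fst i k) := IsPullback.of_hasPullback _ _
  have hcomm : i' ≫ gC = gD ≫ i := hss.1.1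
  let iX : DX ⟶ X := pullback.lift (pullback.fst gD (pullback.fst i k) ≫ i')
    (pullback.snd gD (pullback.fst i k) ≫ pullback.snd i k) (by
      rw [Category.assoc, hcomm, ← Category.assoc, pullback.condition, Category.assoc, pullback.condition,
        Category.assoc])
  obtain ⟨r1, r2, r3, -⟩ := hrestr φ i hC i' gC gD hss heC heD k (by rw [hkφ]; infer_instance)
    (by rw [hkφ]; infer_instance) (pullback.fst i k) (pullback.snd i k) sqi (pullback.fst gC k)
    (pullback.snd gC k) sqX (pullback.fst gD (pullback.fst i k)) (pullback.snd gD (pullback.fst i k)) sqDX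
    iX (pullback.lift_fst _ _ _) (pullback.lift_snd _ _ _)
  rw [hkφ] at r1 r2
  have r3' : SSMod.IsEtaIso ((pullback.snd i k ≫ φ₀) ≫ j) (pullback.snd gD (pullback.fst i k)) := by
    rw [Category.assoc, ← hkφ]; exact r3
  -- the point
  obtain ⟨c₀, hc₀, hc₀'⟩ : ∃ c₀ : C₀, k c₀ = c' ∧ φ₀ c₀ = IsLocalRing.closedPoint (Localization.Away a) := by
    obtain ⟨c₀, h1, h2⟩ := Scheme.Pullback.exists_preimage_pullback c' (IsLocalRing.closedPoint (Localization.Away a))
      (f := φ) (g := j) (by rw [hjq]; exact hq)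
    exact ⟨c₀, h1, h2⟩
  have hcl₀ : IsClosed ({c₀} : Set C₀) := by
    have h1 : ({c₀} : Set C₀) = k ⁻¹' {c'} := by
      ext x
      simp only [Set.mem_singleton_iff, Set.mem_preimage]
      refine ⟨fun h => by rw [h, hc₀], fun h => k.isOpenEmbedding.injective (by rw [h, hc₀])⟩
    rw [h1]
    exact hcl.preimage k.continuous
  obtain ⟨V, hcV, CV, DV, iV, fV, fDV, s1, s2, s3⟩ := hclosed (Localization.Away a) φ₀ (pullback.snd i k)
    (K971.SSBaseChange.isMPCurve_of_isPullback hC sq sqi) iX (pullback.snd gC k)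
    (pullback.snd gD (pullback.fst i k)) (isSemistableModification_of_mono j r1) (isEtaIso_of_mono j hjg r2)
    (isEtaIso_of_mono j hjg r3') c₀ hc₀' hcl₀
  obtain ⟨t1, t2, t3⟩ := hpost j (V.ι ≫ φ₀) (pullback.snd i k ∣_ V) iV fV fDV s1 s2 s3
  have hkV : (V.ι ≫ φ₀) ≫ j = (V.ι ≫ k) ≫ φ := by
    rw [Category.assoc, Category.assoc, hkφ]
  rw [hkV] at t1 t2
  have t3' : SSMod.IsEtaIso ((pullback.snd i k ∣_ V) ≫ (V.ι ≫ k) ≫ φ) fDV := by
    rw [← hkV]
    exact t3
  have sqV : IsPullback (((pullback.snd i k) ⁻¹ᵁ V).ι ≫ pullback.fst i k) (pullback.snd i k ∣_ V) i (V.ι ≫ k) :=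
    (isPullback_morphismRestrict (pullback.snd i k) V).flip.paste_horiz sqi
  obtain ⟨fV', fD', u1, u2, u3⟩ := K478.OpenC.main φ i (V.ι ≫ k) _ _ sqV iV fV fDV t1 t2 t3'
  refine ⟨(V.ι ≫ k).opensRange, ?_, CV, DV, iV, fV', fD', u1, u2, u3⟩
  refine hsp.mem_open (V.ι ≫ k).opensRange.2 ?_
  exact ⟨⟨c₀, hcV⟩, by rw [← hc₀]; rfl⟩

end K640.Localize
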