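import Groth.Agent.Desc.JacobsonDescent
import Mathlib.AlgebraicGeometry.Morphisms.FiniteType
import Mathlib.FieldTheory.IsAlgClosed.Basic

/-!
# Sections over valuation rings with algebraically closed fraction field (helper640)

* `K640.ValAlg.exists_point`: `V` a valuation ring with algebraically closed fraction field, `A` of finite type over `V`,
  primes `Q ≤ P` of `A` lying over `0` and over the maximal ideal: there is a `V`-algebra map `A → V` killing `Q`.
* `K640.ValAlg.exists_section`: the same for schemes.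
-/

set_option autoImplicit false
universe u

open CategoryTheory CategoryTheory.Limits AlgebraicGeometry

namespace K640.ValAlg

/-- A domain algebraic over a valuation ring with algebraically closed fraction field, dominating it at some prime, is
the valuation ring. -/
theorem bijective_of_isAlgebraic {V : Type u} [CommRing V] [IsDomain V] [ValuationRing V] [IsAlgClosed (FractionRing V)]
    {C : Type u} [CommRing C] [IsDomain C] [Algebra V C] [FaithfulSMul V C] [Algebra.IsAlgebraic V C] (x : Ideal C)
    [hx : x.IsPrime] (h : IsLocalRing.maximalIdeal V ≤ x.comap (algebraMap V C)) :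
    Function.Bijective (algebraMap V C) := by
  have hinj : Function.Injective (algebraMap V C) := FaithfulSMul.algebraMap_injective V C
  refine ⟨hinj, fun c => ?_⟩
  let K := FractionRing V
  let L := FractionRing C
  have hVL : Function.Injective (algebraMap V L) := by
    rw [IsScalarTower.algebraMap_eq V C L]
    exact (IsFractionRing.injective C L).comp hinj
  let : Algebra K L := (IsFractionRing.lift hVL).toAlgebra
  have : IsScalarTower V K L := IsScalarTower.of_algebraMap_eq fun v => (IsFractionRing.lift_algebraMap hVL v).symm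
  have hCL : Algebra.IsAlgebraic V L := by
    have : Algebra.IsAlgebraic C L := IsLocalization.isAlgebraic _ (nonZeroDivisors C)
    exact Algebra.IsAlgebraic.trans V C L
  have hKL : Algebra.IsAlgebraic K L := Algebra.IsAlgebraic.extendScalars (R := V) (IsFractionRing.injective V K)
  have hsurj : Function.Surjective (algebraMap K L) :=
    (IsAlgClosed.algebraMap_bijective_of_isIntegral (k := K) (K := L)).2
  obtain ⟨y, hy⟩ := hsurj (algebraMap C L c)
  obtain ⟨a, b, hb, rfl⟩ := IsFractionRing.div_surjective (A := V) y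
  have hb0 : b ≠ 0 := nonZeroDivisors.ne_zero hb
  have hbL : algebraMap V L b ≠ 0 := (map_ne_zero_iff _ hVL).2 hb0
  have key : algebraMap V C a = algebraMap V C b * c := by
    apply IsFractionRing.injective C L
    rw [map_mul, ← hy, map_div₀, ← IsScalarTower.algebraMap_apply V K L, ← IsScalarTower.algebraMap_apply V K L,
      ← IsScalarTower.algebraMap_apply V C L, ← IsScalarTower.algebraMap_apply V C L, mul_div_assoc']
    exact (mul_div_cancel_left₀ _ hbL).symm
  rcases ValuationRing.dvd_total a b with ⟨d, hd⟩ | ⟨d, hd⟩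
  · -- b = a * d
    have hbC : algebraMap V C b ≠ 0 := (map_ne_zero_iff _ hinj).2 hb0
    have ha0 : a ≠ 0 := by
      rintro rfl
      exact hb0 (by rw [hd, zero_mul])
    have haC : algebraMap V C a ≠ 0 := (map_ne_zero_iff _ hinj).2 ha0
    have h1 : algebraMap V C d * c = 1 := by
      apply mul_left_cancel₀ haC
      rw [mul_one, ← mul_assoc, ← map_mul, ← hd, ← key]
    have hdu : IsUnit d := by
      by_contra hd'
      have h2 : algebraMap V C d ∈ x := h ((IsLocalRing.mem_maximalIdeal d).2 hd')
      exact hx.ne_top ((Ideal.eq_top_iff_one x).2 (h1 ▸ x.mul_mem_right c h2))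
    obtain ⟨e, he⟩ := hdu.exists_right_inv
    refine ⟨e, ?_⟩
    have h3 : algebraMap V C d * algebraMap V C e = 1 := by rw [← map_mul, he, map_one]
    have h4 : algebraMap V C d ≠ 0 := left_ne_zero_of_mul_eq_one h1
    exact mul_left_cancel₀ h4 (h3.trans h1.symm)
  · -- a = b * d
    refine ⟨d, ?_⟩
    have hbC : algebraMap V C b ≠ 0 := (map_ne_zero_iff _ hinj).2 hb0
    apply mul_left_cancel₀ hbC
    rw [← map_mul, ← hd, key]

/-- Points of finite type algebras over a valuation ring with algebraically closed fraction field. -/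
theorem exists_point {V : Type u} [CommRing V] [IsDomain V] [ValuationRing V] [IsAlgClosed (FractionRing V)]
    {A : Type u} [CommRing A] [Algebra V A] [Algebra.FiniteType V A] (Q P : Ideal A) [hQp : Q.IsPrime] [hPp : P.IsPrime]
    (hQP : Q ≤ P) (hQ : Q.comap (algebraMap V A) = ⊥)
    (hP : IsLocalRing.maximalIdeal V ≤ P.comap (algebraMap V A)) :
    ∃ ψ : A →ₐ[V] V, Q ≤ RingHom.ker ψ := by
  let B := A ⧸ Q
  have hfB : FaithfulSMul V B := by
    rw [faithfulSMul_iff_algebraMap_injective, injective_iff_map_eq_zero]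
    intro v hv
    have h1 : algebraMap V A v ∈ Q := Ideal.Quotient.eq_zero_iff_mem.1 hv
    have h2 : v ∈ Q.comap (algebraMap V A) := h1
    rwa [hQ] at h2
  have hft : Algebra.FiniteType V B :=
    Algebra.FiniteType.of_surjective (Ideal.Quotient.mkₐ V Q) Ideal.Quotient.mk_surjective
  have hB : (IsLocalRing.maximalIdeal V).map (algebraMap V B) ≠ ⊤ := by
    have h1 : (P.map (Ideal.Quotient.mk Q)).IsPrime := Ideal.map_isPrime_of_surjective Ideal.Quotient.mk_surjective
      (by rwa [Ideal.mk_ker])
    intro h2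
    refine h1.ne_top (top_le_iff.1 (h2 ▸ ?_))
    rw [Ideal.map_le_iff_le_comap]
    intro v hv
    exact Ideal.mem_map_of_mem (Ideal.Quotient.mk Q) (hP hv)
  obtain ⟨q, x, hq, hx, hqx, hq0, hxm, halg⟩ := Groth.Agent.Desc.JacobsonDescent.exists_quasiSection (V := V) (B := B) hB
  let C := B ⧸ q
  have hC : FaithfulSMul V C := by
    rw [faithfulSMul_iff_algebraMap_injective, injective_iff_map_eq_zero]
    intro v hv
    have h1 : algebraMap V B v ∈ q := Ideal.Quotient.eq_zero_iff_mem.1 hv
    have h2 : v ∈ q.under V := h1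
    rwa [hq0] at h2
  have hx' : (x.map (Ideal.Quotient.mk q)).IsPrime := Ideal.map_isPrime_of_surjective Ideal.Quotient.mk_surjective
      (by rwa [Ideal.mk_ker])
  have hbij := bijective_of_isAlgebraic (V := V) (C := C) (x.map (Ideal.Quotient.mk q)) (fun v hv =>
    Ideal.mem_map_of_mem (Ideal.Quotient.mk q) (hxm hv))
  let e : V ≃ₐ[V] C := AlgEquiv.ofBijective (Algebra.ofId V C) hbij
  refine ⟨(e.symm : C →ₐ[V] V).comp ((Ideal.Quotient.mkₐ V q).comp (Ideal.Quotient.mkₐ V Q)), fun a ha => ?_⟩
  rw [RingHom.mem_ker]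
  have : (Ideal.Quotient.mkₐ V Q) a = 0 := Ideal.Quotient.eq_zero_iff_mem.2 ha
  simp [this]

/-- **Sections through specializations.** `U` locally of finite type over a valuation ring `V` with algebraically closed
fraction field, `t ⤳ u` with `t` over the generic point and `u` over the closed point: there is a section whose image is
contained in the closure of `t`. -/
theorem exists_section {V : Type u} [CommRing V] [IsDomain V] [ValuationRing V] [IsAlgClosed (FractionRing V)]
    {U : Scheme.{u}} (f : U ⟶ Spec (CommRingCat.of V)) [LocallyOfFiniteType f] {t w : U} (h : t ⤳ w)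
    (ht : (f t : PrimeSpectrum V).asIdeal = ⊥) (hw : (f w : PrimeSpectrum V).asIdeal = IsLocalRing.maximalIdeal V) :
    ∃ σ : Spec (CommRingCat.of V) ⟶ U, σ ≫ f = 𝟙 _ ∧ ∀ z, t ⤳ σ z := by
  obtain ⟨W, hW, hwW, -⟩ := exists_isAffineOpen_mem_and_subset (x := w) (U := (⊤ : U.Opens)) trivial
  have htW : t ∈ W := h.mem_open W.isOpen hwW
  let j := hW.fromSpec
  obtain ⟨φ, hφ⟩ := Spec.map_surjective (j ≫ f)
  have hft : φ.hom.FiniteType := (HasRingHomProperty.Spec_iff (P := @LocallyOfFiniteType)).1 (by rw [hφ]; infer_instance)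
  let : Algebra V Γ(U, W) := φ.hom.toAlgebra
  have : Algebra.FiniteType V Γ(U, W) := hft
  have hr : Set.range j = (W : Set U) := hW.range_fromSpec
  obtain ⟨P, hP⟩ : w ∈ Set.range j := hr ▸ hwW
  obtain ⟨Q, hQ⟩ : t ∈ Set.range j := hr ▸ htW
  have hQP : Q ⤳ P := by
    rw [← j.isOpenEmbedding.isInducing.specializes_iff, hQ, hP]
    exact h
  have hf : ∀ z : ↥(Spec Γ(U, W)), ((j ≫ f) z : PrimeSpectrum V).asIdeal = (z : PrimeSpectrum Γ(U, W)).asIdeal.comap
      (algebraMap V Γ(U, W)) := fun z => by
    rw [← hφ]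
    rfl
  have hQ' := hf Q
  have hP' := hf P
  rw [Scheme.Hom.comp_apply, hQ, ht] at hQ'
  rw [Scheme.Hom.comp_apply, hP, hw] at hP'
  obtain ⟨ψ, hψ⟩ := exists_point (V := V) Q.asIdeal P.asIdeal ((PrimeSpectrum.le_iff_specializes Q P).2 hQP) hQ'.symm
    hP'.le
  refine ⟨Spec.map (CommRingCat.ofHom ψ.toRingHom) ≫ j, ?_, fun z => ?_⟩
  · rw [Category.assoc, ← hφ, ← Spec.map_comp, ← Spec.map_id]
    congr 1
    ext v
    exact ψ.commutes v
  · rw [Scheme.Hom.comp_apply, ← hQ]
    refine Specializes.map ?_ j.continuous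
    refine (PrimeSpectrum.le_iff_specializes Q ((Spec.map (CommRingCat.ofHom ψ.toRingHom)) z)).1 ?_
    intro a ha
    have : ψ a = 0 := hψ ha
    change ψ a ∈ z.asIdeal
    rw [this]
    exact zero_mem _

end K640.ValAlg
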