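import Groth.Agent.SSMod.K640.ValAlg
import Groth.Agent.AlgSt.K735.DvrMain
import Groth.Agent.AlgSt.K735.Lift
import Groth.Agent.AlgSt.K735.Prod
import Groth.Agent.AlgSt.K735.Univ
import Groth.Agent.AlgSt.K748.SmOver
import Groth.Agent.Grpsch.ClosureImage

/-!
# The existence part of the valuative criterion for algebraic stacks over a valuation ring with algebraically closed
fraction field (helper640)

* `K640.ValStack.base`: the structure map `|𝒳| → S`;
* `K640.ValStack.exists_special`: a smooth chart `U` of a stack universally closed over `Spec V` has a point over the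
  closed point in the closure of the points of `U` representing a given point over the generic point;
* `K640.ValStack.exists_extension`: `𝒳` an algebraic stack, separated, locally of finite type and universally closed
  over `Spec V`, `V` a valuation ring with algebraically closed fraction field `K`: every object over `Spec K` extends
  to an object over `Spec V`.
-/

set_option autoImplicit false
set_option backward.isDefEq.respectTransparency false
set_option backward.isDefEq.respectTransparency.types false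

universe v₄ u₄ v₃ u₃ v₂ u₂ v u

open CategoryTheory CategoryTheory.Limits AlgebraicGeometry Opposite K735.Fib K735.Fp K735.Rep K735.Setoid K735.SpFp
  K735.Pts K735.PtsSp K735.Top K735.Prod

namespace K640.ValStack

section Base

variable {S : Scheme.{u}} {𝒳 : BasedCategory.{v₂, u₂} (Over S)} {𝒴 : BasedCategory.{v₃, u₃} (Over S)}

/-- The structure map `|𝒳| → S`. -/
noncomputable def base : AlgSt.Points 𝒳 → S :=
  Quot.lift (fun p => p.str (IsLocalRing.closedPoint p.K)) (by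
    have key : ∀ {p q : AlgSt.FPt 𝒳} (a : p.obj ⟶ q.obj),
        p.str (IsLocalRing.closedPoint p.K) = q.str (IsLocalRing.closedPoint q.K) := fun {p q} a => by
      have h := Over.w (baseHom a)
      change (baseHom a).left ≫ q.str = p.str at h
      rw [← h, Scheme.Hom.comp_apply]
      congr 1
      exact Subsingleton.elim (α := PrimeSpectrum q.K) _ _
    rintro p q ⟨r, a, b, -⟩
    exact (key a).symm.trans (key b))

theorem base_mk (p : AlgSt.FPt 𝒳) : base (AlgSt.Points.mk p) = p.str (IsLocalRing.closedPoint p.K) := rfl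

theorem base_map (f : 𝒳 ⥤ᵇ 𝒴) (z : AlgSt.Points 𝒳) : base (AlgSt.Points.map f z) = base z := by
  obtain ⟨p, rfl⟩ := AlgSt.Points.mk_surjective z
  rfl

theorem base_ofChart {U : Over S} (x : FibCat.overCat U ⥤ᵇ 𝒳) (t : ↥U.left) :
    base (AlgSt.Points.ofChart x t) = U.hom t := by
  change (U.left.fromSpecResidueField t ≫ U.hom) (IsLocalRing.closedPoint _) = _
  rw [Scheme.Hom.comp_apply, Scheme.fromSpecResidueField_apply]

/-- Points of charts by spectra of fields. -/
theorem ofChart_field {k : Type u} [Field k] {s : Spec (CommRingCat.of k) ⟶ S}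
    (c : FibCat.overCat (Over.mk s) ⥤ᵇ 𝒳) (t : ↥(Over.mk s : Over S).left) :
    AlgSt.Points.ofChart c t = AlgSt.Points.mk ⟨k, s, c.obj (idObj _), c.w_obj _⟩ :=
  mk_eq_of_hom (c.map (toId (Over.mk (Over.homMk ((Over.mk s).left.fromSpecResidueField t) rfl :
    Over.mk ((Over.mk s).left.fromSpecResidueField t ≫ (Over.mk s).hom) ⟶ Over.mk s))))

end Base

theorem exists_special {S : Scheme.{u}} {𝒳 : AlgSt.Cat S} (h𝒳 : AlgSt.IsAlgStack Scheme.etalePrecoverage 𝒳)
    (hcl : AlgSt.IsUnivClosed Scheme.etalePrecoverage (FibCat.toSelf 𝒳)) {U : Over S} (p : FibCat.overCat U ⥤ᵇ 𝒳)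
    (hp : AlgSt.RepByAlgSpWith (AlgSp.LocP @Smooth) p) (hps : AlgSt.RepByAlgSpWith AlgSp.IsSurjectiveMor p)
    (P : AlgSt.Points 𝒳) {s : S} (hs : base P ⤳ s) :
    ∃ w : ↥U.left, U.hom w = s ∧ w ∈ closure {t : ↥U.left | AlgSt.Points.ofChart p t = P} := by
  have g𝒳 := h𝒳.isStack.1
  have gU := isFibGrpd_overCat U
  let O : Over S := Over.mk (𝟙 S)
  let g := FibCat.toSelf (FibCat.overCat O)
  let f := FibCat.toSelf 𝒳
  have hsurj : Function.Surjective (AlgSt.Points.map p) := surjective_of_repByAlgSpWith g𝒳 gU hps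
  have hcont : ChartCont 𝒳 := chartCont_of_atlas g𝒳 p hp hsurj
  obtain ⟨r, rfl⟩ := AlgSt.Points.mk_surjective P
  let z0 : AlgSt.Points (FibCat.overCat O) := AlgSt.Points.mk
    ⟨r.K, r.str, Over.mk (Over.homMk r.str (Category.comp_id _) : Over.mk r.str ⟶ O), rfl⟩
  have hz : AlgSt.Points.map g z0 = AlgSt.Points.map f (AlgSt.Points.mk r) :=
    mk_eq_of_hom (p := AlgSt.FPt.map g _) (q := AlgSt.FPt.map f r) (eqToHom r.lies.symm : Over.mk r.str ⟶ 𝒳.p.obj r.obj)
  obtain ⟨q, hq1, hq2⟩ := exists_fp g𝒳 (isFibGrpd_overCat O) isFibGrpd_selfOver g f z0 _ hz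
  have hC := hcl _ (K735.DvrMain.isAlgStack_overCat_et O) g (closure {q}) isClosed_closure
  obtain ⟨t0, ht0⟩ := exists_ofChart_id z0
  have h1 : (t0 : S) = base (AlgSt.Points.mk r) := by
    have h2 := base_ofChart (BasedFunctor.id (FibCat.overCat O)) t0
    rw [ht0] at h2
    exact h2.symm
  have hC' := hC.preimage (continuous_ofChart_id O)
  have hsC : s ∈ AlgSt.Points.ofChart (BasedFunctor.id (FibCat.overCat O)) ⁻¹'
      (AlgSt.Points.map (FibCat.fpFst g f) '' closure {q}) := by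
    refine Specializes.mem_closed (x := t0) (h1 ▸ hs) hC' ⟨q, subset_closure rfl, hq1.trans ht0.symm⟩
  obtain ⟨d, hd, hds⟩ := hsC
  have hd' : AlgSt.Points.map (FibCat.fpSnd g f) d ∈ closure {AlgSt.Points.mk r} := by
    refine map_mem_closure (continuous_map hcont (FibCat.fpSnd g f)) hd ?_
    rintro _ rfl
    exact hq2
  have hb : base (AlgSt.Points.map (FibCat.fpSnd g f) d) = s := by
    rw [base_map, ← base_map (FibCat.fpFst g f), hds, base_ofChart]
    rfl
  obtain ⟨w, hw⟩ := (surjective_map_iff_surjective_ofChart p).1 hsurj (AlgSt.Points.map (FibCat.fpSnd g f) d)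
  refine ⟨w, by rw [← base_ofChart p, hw, hb], ?_⟩
  have hop : IsOpenMap (AlgSt.Points.ofChart p) := isOpenMap_ofChart p
    (isOpenMap_map isOpenMap_of_smooth g𝒳 gU (chartCont_overCat U) hp)
  exact hop.preimage_closure_subset_closure_preimage (by rw [Set.mem_preimage, hw]; exact hd')

section Isom

variable {S : Scheme.{u}} {𝒳 : AlgSt.Cat S} {E U T : Over S} (a : FibCat.overCat E ⥤ᵇ 𝒳) (p : FibCat.overCat U ⥤ᵇ 𝒳)
  (pr₁ : T ⟶ E) (pr₂ : T ⟶ U)

/-- The functor `(a, p)` on the product of two charts. -/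
def pairF : FibCat.overCat T ⥤ᵇ FibCat.fp (FibCat.toSelf 𝒳) (FibCat.toSelf 𝒳) :=
  FibCat.fpLift (BasedFunctor.comp (AlgSt.overMap pr₁) a) (BasedFunctor.comp (AlgSt.overMap pr₂) p) (selfIso _ _)

variable {a p}

/-- Points of `U` with the same image as a point of `E` come from the locus of `E × U` where the two objects are
isomorphic. -/
theorem exists_mem_range (h𝒳 : FibCat.IsFibGrpd 𝒳.p)
    (hT : ∀ (W : Over S) (h : W ⟶ E) (g : W ⟶ U), ∃ m : W ⟶ T, m ≫ pr₁ = h ∧ m ≫ pr₂ = g)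
    (t : ↥U.left) (e : ↥E.left) (hte : AlgSt.Points.ofChart p t = AlgSt.Points.ofChart a e) :
    ∃ w : ↥T.left, pr₂.left w = t ∧
      AlgSt.Points.ofChart (pairF a p pr₁ pr₂) w ∈ Set.range (AlgSt.Points.map (FibCat.diag (FibCat.toSelf 𝒳))) := by
  obtain ⟨z, hz1, hz2⟩ := exists_fp (isFibGrpd_overCat E) (isFibGrpd_overCat U) h𝒳 p a
    (AlgSt.Points.ofChart (BasedFunctor.id _) t) (AlgSt.Points.ofChart (BasedFunctor.id _) e) hte
  obtain ⟨k, _, s, y, hy⟩ := exists_fpt_chart (isFibGrpd_fp (isFibGrpd_overCat U) (isFibGrpd_overCat E) h𝒳 p a) z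
  let pt : ↥(Over.mk s : Over S).left := IsLocalRing.closedPoint k
  obtain ⟨g, ⟨ig⟩⟩ := exists_iso_overMap (BasedFunctor.comp y (FibCat.fpFst p a))
  obtain ⟨h, ⟨ih⟩⟩ := exists_iso_overMap (BasedFunctor.comp y (FibCat.fpSnd p a))
  obtain ⟨m, hm1, hm2⟩ := hT _ h g
  subst hm1 hm2
  have hU : AlgSt.Points.ofChart (BasedFunctor.id (FibCat.overCat U)) ((m ≫ pr₂).left pt) =
      AlgSt.Points.ofChart (BasedFunctor.id (FibCat.overCat U)) t := by
    rw [← hz1, ← hy pt, map_ofChart, ← ofChart_overMap]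
    exact (ofChart_congr ig pt).symm
  refine ⟨m.left pt, ?_, ?_⟩
  · have := (ofChart_id_bijective U).1 hU
    rw [← this]
    rfl
  · rw [← ofChart_overMap]
    let X' : FibCat.overCat (Over.mk s) ⥤ᵇ 𝒳 := BasedFunctor.comp (AlgSt.overMap (m ≫ pr₂)) p
    have i1 : BasedFunctor.comp (AlgSt.overMap (m ≫ pr₁)) a ≅ X' :=
      whiskerRightIso ih.symm a ≪≫ (whiskerLeftIso y (FibCat.fpIso p a)).symm ≪≫ whiskerRightIso ig p
    have i2 : BasedFunctor.comp (AlgSt.overMap m) (pairF a p pr₁ pr₂) ≅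
        BasedFunctor.comp X' (FibCat.diag (FibCat.toSelf 𝒳)) :=
      prodExt i1 (Iso.refl _)
    rw [ofChart_congr i2]
    exact ⟨AlgSt.Points.ofChart X' pt, rfl⟩

/-- The locus of `E × U` where the two objects are isomorphic is closed if the diagonal is proper. -/
theorem isClosed_locus (h𝒳 : FibCat.IsFibGrpd 𝒳.p) (hsep : AlgSt.IsSeparatedOver 𝒳)
    (Y : FibCat.overCat T ⥤ᵇ FibCat.fp (FibCat.toSelf 𝒳) (FibCat.toSelf 𝒳)) :
    IsClosed (AlgSt.Points.ofChart Y ⁻¹' Set.range (AlgSt.Points.map (FibCat.diag (FibCat.toSelf 𝒳)))) := by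
  obtain ⟨F, e, he, hq⟩ := hsep T Y
  rw [← Set.image_univ, preimage_image_map (isFibGrpd_fp h𝒳 h𝒳 isFibGrpd_selfOver _ _) h𝒳 Y e he,
    Set.preimage_univ]
  exact (K735.Univ.univSp_le _ hq.2.2 _ isClosed_univ).preimage (AlgSp.Points.continuous_ofPt _)

/-- Over an algebraically closed field the two objects are isomorphic at the points of the locus. -/
theorem exists_iso_of_mem (h𝒳 : FibCat.IsFibGrpd 𝒳.p) (hsep : AlgSt.IsSeparatedOver 𝒳)
    {k : Type u} [Field k] [IsAlgClosed k] {s : Spec (CommRingCat.of k) ⟶ S} (m : Over.mk s ⟶ T)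
    (t : ↥(Over.mk s : Over S).left)
    (h : AlgSt.Points.ofChart (pairF a p pr₁ pr₂) (m.left t) ∈
      Set.range (AlgSt.Points.map (FibCat.diag (FibCat.toSelf 𝒳)))) :
    ∃ (c : 𝒳.obj) (φ₁ : c ⟶ a.obj (Over.mk (m ≫ pr₁))) (φ₂ : c ⟶ p.obj (Over.mk (m ≫ pr₂))),
      Vert 𝒳.p φ₁ ∧ Vert 𝒳.p φ₂ := by
  rw [← ofChart_overMap, ofChart_field] at h
  have hd : AlgSt.RepByAlgSpWith (AlgSp.LocP @LocallyOfFiniteType) (FibCat.diag (FibCat.toSelf 𝒳)) :=
    AlgSt_RepByAlgSpWith_mono (fun _ _ _ h => h.2.1.1) hsep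
  obtain ⟨c, φ, -, hφ⟩ := K735.Lift.exists_lift_of_mem_range (isFibGrpd_fp h𝒳 h𝒳 isFibGrpd_selfOver _ _) h𝒳 hd _ _ h
  have hv := vert_of_isHomLift hφ
  have e : (AlgSt.overMap m).obj (idObj (Over.mk s)) = Over.mk m :=
    congrArg Over.mk (Category.id_comp m)
  let θ : (AlgSt.overMap m).obj (idObj (Over.mk s)) ⟶ (Over.mk m : (FibCat.overCat T).obj) := eqToHom e
  have hθ : Vert (FibCat.overCat T).p θ := vert_eqToHom e
  refine ⟨c, φ.hom.fst ≫ a.map ((AlgSt.overMap pr₁).map θ), φ.hom.snd ≫ p.map ((AlgSt.overMap pr₂).map θ), ?_, ?_⟩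
  · exact ((vert_fp_iff _).1 hv).comp (Vert.map a (Vert.map (AlgSt.overMap pr₁) hθ))
  · exact ((vert_fp_iff_snd _).1 hv).comp (Vert.map p (Vert.map (AlgSt.overMap pr₂) hθ))

end Isom

/-- **Existence part of the valuative criterion** over a valuation ring with algebraically closed fraction field, without
extension of the valuation ring: if `𝒳` is an algebraic stack over `Spec V`, separated, locally of finite type and
universally closed, then every object over the generic point extends to `Spec V`. -/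
theorem exists_extension {V : Type u} [CommRing V] [IsDomain V] [ValuationRing V] [IsAlgClosed (FractionRing V)]
    {𝒳 : AlgSt.Cat (Spec (CommRingCat.of V))} (h𝒳 : AlgSt.IsAlgStack Scheme.etalePrecoverage 𝒳)
    (hsep : AlgSt.IsSeparatedOver 𝒳) (hft : AlgSt.LocQ (AlgSp.LocP @LocallyOfFiniteType) (FibCat.toSelf 𝒳))
    (hcl : AlgSt.IsUnivClosed Scheme.etalePrecoverage (FibCat.toSelf 𝒳)) (x : 𝒳.obj)
    (hx : 𝒳.p.obj x = Over.mk (Spec.map (CommRingCat.ofHom (algebraMap V (FractionRing V))))) :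
    ∃ (y : 𝒳.obj) (_ : x ⟶ y), 𝒳.p.obj y = Over.mk (𝟙 (Spec (CommRingCat.of V))) := by
  have g𝒳 := h𝒳.isStack.1
  let K := FractionRing V
  let η : Spec (CommRingCat.of K) ⟶ Spec (CommRingCat.of V) := Spec.map (CommRingCat.ofHom (algebraMap V K))
  have hη : IsPreimmersion η := IsPreimmersion.of_isLocalization (nonZeroDivisors V)
  let ηK : ↥(Spec (CommRingCat.of K)) := IsLocalRing.closedPoint K
  let s0 : ↥(Spec (CommRingCat.of V)) := IsLocalRing.closedPoint V
  have hgen : ∀ z : ↥(Spec (CommRingCat.of K)), (η z : PrimeSpectrum V).asIdeal = ⊥ := fun z => by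
    have h1 : z = ηK := Subsingleton.elim (α := PrimeSpectrum K) _ _
    rw [h1]
    change (IsLocalRing.maximalIdeal K).comap (algebraMap V K) = ⊥
    rw [IsLocalRing.maximalIdeal_eq_bot, ← RingHom.ker_eq_comap_bot]
    exact (RingHom.injective_iff_ker_eq_bot _).1 (IsFractionRing.injective V K)
  have hsp : η ηK ⤳ s0 := by
    refine (PrimeSpectrum.le_iff_specializes (η ηK) s0).1 ?_
    change (η ηK : PrimeSpectrum V).asIdeal ≤ _
    rw [hgen]
    exact bot_le
  -- a chart locally of finite type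
  obtain ⟨U, U', p, p', h, -, hp, hps, hp', hh⟩ := hft
  have hU : LocallyOfFiniteType U.hom := by
    have h5 : LocallyOfFiniteType h.left := AlgSp.locP_yon_map hh
    have h6 := K748.SmOver.smooth_hom_of_rep p' hp'
    rw [← Over.w h]
    infer_instance
  let E : Over (Spec (CommRingCat.of V)) := Over.mk η
  let a : FibCat.overCat E ⥤ᵇ 𝒳 := yonF g𝒳 x hx
  let P : AlgSt.Points 𝒳 := AlgSt.Points.mk ⟨K, η, x, hx⟩
  obtain ⟨w₀, hw₀, hcl₀⟩ := exists_special h𝒳 hcl p hp hps P hsp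
  let T : Over (Spec (CommRingCat.of V)) := Over.mk (pullback.fst η U.hom ≫ η)
  let pr₁ : T ⟶ E := Over.homMk (pullback.fst η U.hom) rfl
  let pr₂ : T ⟶ U := Over.homMk (pullback.snd η U.hom) pullback.condition.symm
  have hT : ∀ (W : Over (Spec (CommRingCat.of V))) (h : W ⟶ E) (g : W ⟶ U), ∃ m : W ⟶ T, m ≫ pr₁ = h ∧ m ≫ pr₂ = g := by
    intro W h g
    have hw : h.left ≫ η = g.left ≫ U.hom := (Over.w h).trans (Over.w g).symm
    refine ⟨Over.homMk (pullback.lift h.left g.left hw) ?_, ?_, ?_⟩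
    · change pullback.lift h.left g.left hw ≫ pullback.fst η U.hom ≫ η = W.hom
      rw [pullback.lift_fst_assoc]
      exact Over.w h
    · exact Over.OverMorphism.ext (pullback.lift_fst _ _ _)
    · exact Over.OverMorphism.ext (pullback.lift_snd _ _ _)
  have hZ := isClosed_locus g𝒳 hsep (pairF a p pr₁ pr₂)
  have hsub : {t : ↥U.left | AlgSt.Points.ofChart p t = P} ⊆ pr₂.left '' (AlgSt.Points.ofChart (pairF a p pr₁ pr₂) ⁻¹'
      Set.range (AlgSt.Points.map (FibCat.diag (FibCat.toSelf 𝒳)))) := by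
    intro t ht
    obtain ⟨w, hw1, hw2⟩ := exists_mem_range (a := a) (p := p) pr₁ pr₂ g𝒳 hT t ηK
      (ht.trans (K735.Lift.ofChart_yonF g𝒳 x hx ηK).symm)
    exact ⟨w, hw2, hw1⟩
  have hqc : QuasiCompact pr₂.left := inferInstanceAs (QuasiCompact (pullback.snd η U.hom))
  obtain ⟨w, hwZ, hw⟩ := Groth.Agent.Grpsch.ClosureImage.exists_specializes_of_mem_closure_image pr₂.left hZ
    (closure_mono hsub hcl₀)
  have hpre : IsPreimmersion pr₂.left := inferInstanceAs (IsPreimmersion (pullback.snd η U.hom))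
  obtain ⟨σ, hσ, hσ'⟩ := K640.ValAlg.exists_section U.hom hw
    (by
      rw [← Scheme.Hom.comp_apply, Over.w pr₂]
      exact hgen _)
    (by rw [hw₀]; rfl)
  -- the `K`-point
  let σ' : (Over.mk (𝟙 (Spec (CommRingCat.of V))) : Over (Spec (CommRingCat.of V))) ⟶ U := Over.homMk σ hσ
  let η' : E ⟶ Over.mk (𝟙 (Spec (CommRingCat.of V))) := Over.homMk η (Category.comp_id _)
  obtain ⟨m, hm1, hm2⟩ := hT E (𝟙 E) (η' ≫ σ')
  have hmem : m.left ηK ∈ AlgSt.Points.ofChart (pairF a p pr₁ pr₂) ⁻¹'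
      Set.range (AlgSt.Points.map (FibCat.diag (FibCat.toSelf 𝒳))) := by
    refine Specializes.mem_closed ?_ hZ hwZ
    rw [← pr₂.left.isEmbedding.isInducing.specializes_iff]
    have h1 : pr₂.left (m.left ηK) = σ (η ηK) := by
      rw [← Scheme.Hom.comp_apply, ← Over.comp_left, hm2]
      rfl
    rw [h1]
    exact hσ' _
  obtain ⟨c, φ₁, φ₂, h₁, h₂⟩ := exists_iso_of_mem (a := a) (p := p) pr₁ pr₂ g𝒳 hsep m ηK hmem
  have e1 : (Over.mk (m ≫ pr₁) : (FibCat.overCat E).obj) = idObj E := congrArg Over.mk hm1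
  let ψ₁ : c ⟶ x := φ₁ ≫ a.map (eqToHom e1) ≫ (yonFIso g𝒳 x hx).hom
  have hψ₁ : Vert 𝒳.p ψ₁ := h₁.comp ((Vert.map a (vert_eqToHom e1)).comp (vert_yonFIso g𝒳 x hx))
  have : IsIso ψ₁ := hψ₁.isIso g𝒳
  let ψ₂ : c ⟶ p.obj (Over.mk σ') := φ₂ ≫ p.map (Over.homMk η' hm2.symm :
    (Over.mk (m ≫ pr₂) : (FibCat.overCat U).obj) ⟶ Over.mk σ')
  exact ⟨p.obj (Over.mk σ'), inv ψ₁ ≫ ψ₂, p.w_obj _⟩

end K640.ValStack
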